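import Mathlib.RingTheory.Localization.Away.Basic
import Mathlib.RingTheory.Localization.AtPrime.Basic
import Mathlib.RingTheory.Valuation.ValuationRing
import Mathlib.RingTheory.LocalRing.MaximalIdeal.Basic
import Mathlib.RingTheory.Ideal.Quotient.Operations

/-!
# Valuation pushouts: a nonzerodivisor `t` in a local ring with the divisibility dichotomy

`Dich t` says that every element is either divisible by `t ^ n` or divides `t ^ n`. With `R = A[1/t]` and `q` the
inverse image of the maximal ideal of `R` this is equivalent to: `A ⧸ q` is a valuation ring and `q → q A_q` is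
bijective.
-/

universe u

namespace Groth.Agent.H69.ValPushout

variable {A : Type u} [CommRing A]

/-- Every element is divisible by `t ^ n` or divides it. -/
def Dich (t : A) : Prop := ∀ (f : A) (n : ℕ), t ^ n ∣ f ∨ f ∣ t ^ n

variable {t : A} (R : Type u) [CommRing R] [Algebra A R] [IsLocalization.Away t R]

theorem isUnit_map_iff (a : A) : IsUnit (algebraMap A R a) ↔ ∃ n, a ∣ t ^ n := by
  rw [IsLocalization.algebraMap_isUnit_iff (Submonoid.powers t)]
  constructor
  · rintro ⟨_, ⟨n, rfl⟩, h⟩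
    exact ⟨n, h⟩
  · rintro ⟨n, h⟩
    exact ⟨_, ⟨n, rfl⟩, h⟩

theorem map_injective (ht : t ∈ nonZeroDivisors A) : Function.Injective (algebraMap A R) :=
  IsLocalization.injective R (M := Submonoid.powers t) (Submonoid.powers_le.mpr ht)

theorem isLocalRing_away [IsLocalRing A] (ht : t ∈ nonZeroDivisors A) (hV : Dich t) :
    IsLocalRing R := by
  have : Nontrivial R := (map_injective R ht).nontrivial
  refine IsLocalRing.of_isUnit_or_isUnit_one_sub_self fun x => ?_
  obtain ⟨n, a, hx⟩ := IsLocalization.Away.surj t x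
  by_cases ht1 : IsUnit t
  · obtain ⟨w, hw⟩ := ht1.pow n
    have hxy : x = algebraMap A R (a * ↑w⁻¹) := by
      rw [map_mul, ← hx, mul_assoc, ← map_pow, ← map_mul, ← hw, Units.mul_inv, map_one, mul_one]
    rw [hxy, ← map_one (algebraMap A R), ← map_sub]
    exact (IsLocalRing.isUnit_or_isUnit_one_sub_self _).imp (·.map _) (·.map _)
  rcases hV a (n + 1) with ⟨b, hb⟩ | h
  · right
    have hxy : x = algebraMap A R (t * b) := by
      refine ((IsLocalization.Away.algebraMap_isUnit t).pow n).mul_right_cancel ?_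
      rw [hx, hb, ← map_pow, ← map_mul]
      ring_nf
    rw [hxy, ← map_one (algebraMap A R), ← map_sub]
    exact ((IsLocalRing.isUnit_or_isUnit_one_sub_self (t * b)).resolve_left
      fun h => ht1 (isUnit_of_mul_isUnit_left h)).map _
  · left
    exact isUnit_of_mul_isUnit_left (hx ▸ (isUnit_map_iff R a).mpr ⟨n + 1, h⟩)

variable [IsLocalRing R]

/-- The prime of the closed point of the interior. -/
abbrev qIdeal : Ideal A := (IsLocalRing.maximalIdeal R).comap (algebraMap A R)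

variable {R}

theorem notMem_qIdeal_iff (a : A) : a ∉ qIdeal R ↔ ∃ n, a ∣ t ^ n := by
  rw [Ideal.mem_comap, IsLocalRing.mem_maximalIdeal, mem_nonunits_iff, not_not,
    isUnit_map_iff (t := t) R a]

theorem mem_nonZeroDivisors_of_notMem (ht : t ∈ nonZeroDivisors A) {a : A} (ha : a ∉ qIdeal R) :
    a ∈ nonZeroDivisors A := by
  obtain ⟨n, c, hc⟩ := (notMem_qIdeal_iff (t := t) a).mp ha
  exact (mul_mem_nonZeroDivisors.mp (hc ▸ pow_mem ht n)).1

include t in
theorem t_notMem : t ∉ qIdeal R := (notMem_qIdeal_iff t).mpr ⟨1, by rw [pow_one]⟩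

theorem exists_eq_pow_mul (hV : Dich t) {a : A} (ha : a ∈ qIdeal R) (n : ℕ) :
    ∃ b ∈ qIdeal R, a = t ^ n * b := by
  obtain ⟨b, hb⟩ := (hV a n).resolve_right fun h => (notMem_qIdeal_iff (t := t) a).mpr ⟨n, h⟩ ha
  refine ⟨b, ?_, hb⟩
  have h := hb ▸ ha
  exact ((inferInstance : (qIdeal R).IsPrime).mem_or_mem h).resolve_left fun h' =>
    t_notMem (t := t) ((inferInstance : (qIdeal R).IsPrime).mem_of_pow_mem n h')

/-- Every nonunit of `A[1/t]` comes from `q`. -/
theorem exists_preimage (hV : Dich t) {x : R} (hx : x ∈ IsLocalRing.maximalIdeal R) :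
    ∃ b ∈ qIdeal R, algebraMap A R b = x := by
  obtain ⟨n, a, ha⟩ := IsLocalization.Away.surj t x
  have haq : a ∈ qIdeal R := by
    rw [Ideal.mem_comap, ← ha]
    exact Ideal.mul_mem_right _ _ hx
  obtain ⟨b, hb, hab⟩ := exists_eq_pow_mul hV haq n
  refine ⟨b, hb, ((IsLocalization.Away.algebraMap_isUnit t).pow n).mul_right_cancel ?_⟩
  rw [ha, hab, map_mul, map_pow, mul_comm]

theorem valuationRing_quot (hV : Dich t) : ValuationRing (A ⧸ qIdeal R) := by
  refine ValuationRing.iff_dvd_total.mpr ⟨fun a b => ?_⟩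
  obtain ⟨a, rfl⟩ := Ideal.Quotient.mk_surjective a
  obtain ⟨b, rfl⟩ := Ideal.Quotient.mk_surjective b
  by_cases ha : a ∈ qIdeal R
  · exact Or.inr (by rw [Ideal.Quotient.eq_zero_iff_mem.mpr ha]; exact dvd_zero _)
  by_cases hb : b ∈ qIdeal R
  · exact Or.inl (by rw [Ideal.Quotient.eq_zero_iff_mem.mpr hb]; exact dvd_zero _)
  obtain ⟨n, c, hc⟩ := (notMem_qIdeal_iff (t := t) a).mp ha
  obtain ⟨m, d, hd⟩ := (notMem_qIdeal_iff (t := t) b).mp hb
  have htnq : ∀ k, t ^ k ∉ qIdeal R := fun k h =>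
    t_notMem (t := t) ((inferInstance : (qIdeal R).IsPrime).mem_of_pow_mem k h)
  have hc0 : Ideal.Quotient.mk (qIdeal R) c ≠ 0 := fun h =>
    htnq n (hc ▸ Ideal.mul_mem_left _ _ (Ideal.Quotient.eq_zero_iff_mem.mp h))
  rcases hV (b * c) n with ⟨e, he⟩ | ⟨g, hg⟩
  · refine Or.inl ⟨Ideal.Quotient.mk _ e, mul_right_cancel₀ hc0 ?_⟩
    rw [← map_mul, ← map_mul, ← map_mul, he, hc]
    ring_nf
  · refine Or.inr ⟨Ideal.Quotient.mk _ g, mul_right_cancel₀ hc0 ?_⟩
    rw [← map_mul, ← map_mul, ← map_mul, ← hc, hg]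
    ring_nf

theorem bijOn_atPrime (ht : t ∈ nonZeroDivisors A) (hV : Dich t) :
    Set.BijOn (algebraMap A (Localization.AtPrime (qIdeal (A := A) R))) (SetLike.coe (qIdeal (A := A) R))
      (SetLike.coe (IsLocalRing.maximalIdeal (Localization.AtPrime (qIdeal (A := A) R)))) := by
  have hle : (qIdeal R).primeCompl ≤ nonZeroDivisors A := fun a ha =>
    mem_nonZeroDivisors_of_notMem ht ha
  refine ⟨fun a ha => (IsLocalization.AtPrime.to_map_mem_maximal_iff _ (qIdeal R) a).mpr ha,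
    (IsLocalization.injective (Localization.AtPrime (qIdeal (A := A) R)) hle).injOn, fun x hx => ?_⟩
  obtain ⟨⟨a, s⟩, hs⟩ := IsLocalization.surj (qIdeal (A := A) R).primeCompl x
  have ha : a ∈ qIdeal R := by
    rw [← IsLocalization.AtPrime.to_map_mem_maximal_iff (Localization.AtPrime (qIdeal (A := A) R)) (qIdeal R),
      ← hs]
    exact Ideal.mul_mem_right _ _ hx
  obtain ⟨n, d, hd⟩ := (notMem_qIdeal_iff (t := t) (s : A)).mp s.2
  obtain ⟨b, hb, hab⟩ := exists_eq_pow_mul hV (Ideal.mul_mem_right d _ ha) n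
  refine ⟨b, hb, (IsLocalization.map_units _ s).mul_right_cancel ?_⟩
  rw [hs, ← map_mul]
  congr 1
  have hd' : d ∈ nonZeroDivisors A := (mul_mem_nonZeroDivisors.mp (hd ▸ pow_mem ht n)).2
  refine (mul_cancel_right_mem_nonZeroDivisors hd').mp ?_
  rw [mul_assoc, ← hd, hab, mul_comm]

/-- The converse: a valuation ring `A ⧸ q` glued to `A[1/t]` gives the dichotomy. -/
theorem dich_of_valuationRing (hval : ValuationRing (A ⧸ qIdeal R))
    (hbij : Set.BijOn (algebraMap A (Localization.AtPrime (qIdeal (A := A) R))) (SetLike.coe (qIdeal (A := A) R))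
      (SetLike.coe (IsLocalRing.maximalIdeal (Localization.AtPrime (qIdeal (A := A) R))))) : Dich t := by
  have htn : ∀ n, t ^ n ∉ qIdeal R := fun n h =>
    t_notMem (t := t) ((inferInstance : (qIdeal R).IsPrime).mem_of_pow_mem n h)
  have hdiv : ∀ a ∈ qIdeal R, ∀ n, ∃ b ∈ qIdeal R, a = t ^ n * b := by
    intro a ha n
    let s : (qIdeal R).primeCompl := ⟨t ^ n, htn n⟩
    have hx : IsLocalization.mk' (Localization.AtPrime (qIdeal (A := A) R)) a s ∈
        IsLocalRing.maximalIdeal (Localization.AtPrime (qIdeal (A := A) R)) :=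
      (IsLocalization.AtPrime.mk'_mem_maximal_iff _ (qIdeal R) a s).mpr ha
    obtain ⟨b, hb, hbx⟩ := hbij.surjOn hx
    refine ⟨b, hb, hbij.injOn ha (Ideal.mul_mem_left _ _ hb) ?_⟩
    rw [map_mul, hbx]
    exact (IsLocalization.mk'_spec' _ a s).symm
  intro f n
  by_cases hf : f ∈ qIdeal R
  · obtain ⟨b, -, hb⟩ := hdiv f hf n
    exact Or.inl ⟨b, hb⟩
  obtain ⟨m, y, hy⟩ := (notMem_qIdeal_iff (t := t) f).mp hf
  rcases (ValuationRing.iff_dvd_total.mp hval).total
    (Ideal.Quotient.mk (qIdeal R) f) (Ideal.Quotient.mk (qIdeal R) (t ^ n)) with ⟨c, hc⟩ | ⟨c, hc⟩ <;>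
    obtain ⟨c, rfl⟩ := Ideal.Quotient.mk_surjective c <;>
    rw [← map_mul, Ideal.Quotient.eq] at hc
  · obtain ⟨h, -, hh⟩ := hdiv _ hc m
    exact Or.inr ⟨c + y * h, by rw [mul_add, ← mul_assoc, ← hy]; linear_combination hh⟩
  · obtain ⟨h, -, hh⟩ := hdiv _ hc n
    exact Or.inl ⟨c + h, by rw [mul_add]; linear_combination hh⟩

end Groth.Agent.H69.ValPushout
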