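import Groth.Agent.H69.ValPushout.Scheme
import Mathlib.RingTheory.Polynomial.ScaleRoots
import Mathlib.RingTheory.AdjoinRoot
import Mathlib.FieldTheory.IsAlgClosed.Basic
import Groth.Prelude.Def_Curves

/-!
# Pairs of algebras over a modulus pair with affine total space; absolute integral closedness
-/

universe u

open CategoryTheory CategoryTheory.Limits AlgebraicGeometry TopologicalSpace ModPair Polynomial

namespace Groth.Agent.H69.ValPushout

set_option backward.isDefEq.respectTransparency false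

section

variable {P : Pair.{u}} [IsAffine P.total]

/-- The structure morphism of an algebra over the total space. -/
noncomputable abbrev algHom {B : CommRingCat.{u}} (φ : Γ(P.total, ⊤) ⟶ B) : Spec B ⟶ P.total :=
  Spec.map φ ≫ P.total.isoSpec.inv

theorem isEffCartier_algHom {t : Γ(P.total, ⊤)}
    (he : P.mod.ideal ⟨⊤, isAffineOpen_top P.total⟩ = Ideal.span {t}) {B : CommRingCat.{u}}
    (φ : Γ(P.total, ⊤) ⟶ B) (hφ : φ.hom t ∈ nonZeroDivisors B) :
    BlowUp.IsEffCartierIdeal (P.mod.comap (algHom φ)) := by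
  intro x
  refine ⟨⟨⊤, isAffineOpen_top _⟩, trivial, (algHom φ).appTop t, ?_, ?_⟩
  · have h : (algHom φ).appTop t = (Scheme.ΓSpecIso B).inv (φ.hom t) := by
      have h' : (algHom φ).appTop = φ ≫ (Scheme.ΓSpecIso B).inv := by
        have h1 : P.total.isoSpec.inv.appTop = (Scheme.ΓSpecIso Γ(P.total, ⊤)).inv := by
          have h2 : P.total.isoSpec.inv.appTop ≫ (Scheme.ΓSpecIso Γ(P.total, ⊤)).hom = 𝟙 _ := by
            rw [← Scheme.toSpecΓ_appTop, ← Scheme.isoSpec_hom, ← Scheme.Hom.comp_appTop,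
              Iso.hom_inv_id, Scheme.Hom.id_appTop]
          exact (Iso.comp_hom_eq_id _).mp h2
        rw [algHom, Scheme.Hom.comp_appTop, h1, Scheme.ΓSpecIso_inv_naturality]
      rw [h']
      rfl
    rw [h]
    exact MulEquivClass.map_nonZeroDivisors
      (Scheme.ΓSpecIso B).commRingCatIsoToRingEquiv.symm ▸ Submonoid.mem_map_of_mem _ hφ
  · rw [Groth.Agent.Lib.Ideal.Comap.ideal_comap_top, he, Ideal.map_span, Set.image_singleton]

/-- The pair of an algebra in which the generator of the modulus stays regular. -/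
noncomputable def algPair {t : Γ(P.total, ⊤)}
    (he : P.mod.ideal ⟨⊤, isAffineOpen_top P.total⟩ = Ideal.span {t}) {B : CommRingCat.{u}}
    (φ : Γ(P.total, ⊤) ⟶ B) (hφ : φ.hom t ∈ nonZeroDivisors B) : Pair.{u} :=
  ⟨Spec B, P.mod.comap (algHom φ), isEffCartier_algHom he φ hφ⟩

/-- The structure morphism of `algPair`. -/
noncomputable def algPairHom {t : Γ(P.total, ⊤)}
    (he : P.mod.ideal ⟨⊤, isAffineOpen_top P.total⟩ = Ideal.span {t}) {B : CommRingCat.{u}}
    (φ : Γ(P.total, ⊤) ⟶ B) (hφ : φ.hom t ∈ nonZeroDivisors B) : algPair he φ hφ ⟶ P :=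
  ⟨algHom φ, le_refl (P.mod.comap (algHom φ))⟩

theorem exists_retraction_of_section {t : Γ(P.total, ⊤)}
    {he : P.mod.ideal ⟨⊤, isAffineOpen_top P.total⟩ = Ideal.span {t}} {B : CommRingCat.{u}}
    {φ : Γ(P.total, ⊤) ⟶ B} {hφ : φ.hom t ∈ nonZeroDivisors B} (h : P ⟶ algPair he φ hφ)
    (hh : h ≫ algPairHom he φ hφ = 𝟙 P) :
    ∃ ψ : B →+* Γ(P.total, ⊤), ∀ a, ψ (φ.hom a) = a := by
  have hid : h.hom ≫ Spec.map φ ≫ P.total.isoSpec.inv = 𝟙 P.total := congrArg Pair.Hom.hom hh
  have h2 : (P.total.isoSpec.inv ≫ h.hom) ≫ Spec.map φ = 𝟙 _ := by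
    rw [← cancel_mono P.total.isoSpec.inv, Category.assoc, Category.assoc, hid,
      Category.comp_id, Category.id_comp]
  obtain ⟨ψ, hψ⟩ := Spec.map_surjective (P.total.isoSpec.inv ≫ h.hom : Spec Γ(P.total, ⊤) ⟶ Spec B)
  rw [← hψ, ← Spec.map_comp, ← Spec.map_id] at h2
  exact ⟨ψ.hom, fun a => ConcreteCategory.congr_hom (Spec.map_injective h2) a⟩

theorem range_algHom {B : CommRingCat.{u}} (φ : Γ(P.total, ⊤) ⟶ B) (x : P.total)
    (h : P.total.isoSpec.hom x ∈ Set.range (PrimeSpectrum.comap φ.hom)) :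
    ∃ y, algHom φ y = x := by
  obtain ⟨q, hq⟩ := h
  refine ⟨q, ?_⟩
  show P.total.isoSpec.inv (PrimeSpectrum.comap φ.hom q) = x
  rw [hq, ← Scheme.Hom.comp_apply, Iso.hom_inv_id]
  rfl

end

/-- Monic polynomials over `A[1/t]` have roots as soon as those over `A` do. -/
theorem exists_root_away {A : Type u} [CommRing A] {t : A} (R : Type u) [CommRing R] [Algebra A R]
    [IsLocalization.Away t R] (h : Curves.IsAIC A) : Curves.IsAIC R := by
  intro f hf hdeg
  rcases subsingleton_or_nontrivial R with hR | hR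
  · exact ⟨0, Subsingleton.elim _ _⟩
  obtain ⟨⟨s, hsm⟩, hs⟩ := IsLocalization.exist_integer_multiples_of_finset (Submonoid.powers t) f.coeffs
  have hsu : IsUnit (algebraMap A R s) := IsLocalization.map_units R ⟨s, hsm⟩
  have hlift : f.scaleRoots (algebraMap A R s) ∈ Polynomial.lifts (algebraMap A R) := by
    rw [Polynomial.lifts_iff_coeff_lifts]
    intro i
    rw [Polynomial.coeff_scaleRoots]
    rcases lt_trichotomy i f.natDegree with hi | rfl | hi
    · by_cases h0 : f.coeff i = 0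
      · exact ⟨0, by rw [h0, zero_mul, map_zero]⟩
      obtain ⟨a, ha⟩ := hs _ (Polynomial.coeff_mem_coeffs h0)
      obtain ⟨k, hk⟩ := Nat.exists_eq_add_of_lt hi
      refine ⟨a * s ^ k, ?_⟩
      rw [show f.natDegree - i = k + 1 by omega, map_mul, ha, map_pow, Algebra.smul_def, pow_succ]
      ring
    · exact ⟨1, by rw [hf.coeff_natDegree, Nat.sub_self, pow_zero, mul_one, map_one]⟩
    · exact ⟨0, by rw [Polynomial.coeff_eq_zero_of_natDegree_lt hi, zero_mul, map_zero]⟩
  obtain ⟨F, hFmap, hFdeg, hF⟩ := Polynomial.lifts_and_natDegree_eq_and_monic hlift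
    ((Polynomial.monic_scaleRoots_iff _).mpr hf)
  rw [Polynomial.natDegree_scaleRoots] at hFdeg
  obtain ⟨z, hz⟩ := h F hF (by omega)
  obtain ⟨w, hw⟩ := hsu
  refine ⟨↑w⁻¹ * algebraMap A R z, ?_⟩
  have h1 : (F.map (algebraMap A R)).eval (algebraMap A R z) = 0 := by
    rw [Polynomial.eval_map, Polynomial.eval₂_at_apply]
    show algebraMap A R (F.eval z) = 0
    rw [show F.eval z = 0 from hz, map_zero]
  have h2 := Polynomial.scaleRoots_eval₂_mul (p := f) (RingHom.id R) (↑w⁻¹ * algebraMap A R z) ↑w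
  rw [hFmap] at h1
  simp only [RingHom.id_apply, Units.mul_inv_cancel_left, ← hw] at h2 h1
  rw [← Polynomial.eval, h1] at h2
  exact ((w.isUnit.pow _).mul_right_eq_zero.mp h2.symm)

/-- The fraction field of `A ⧸ q` is a quotient of `A[1/t]`. -/
theorem exists_surjective_to_fractionRing {A : Type u} [CommRing A] {t : A} (R : Type u)
    [CommRing R] [Algebra A R] [IsLocalization.Away t R] [IsLocalRing R] (I : Ideal A) [I.IsPrime]
    (hI : I = qIdeal R) : ∃ ρ : R →+* FractionRing (A ⧸ I), Function.Surjective ρ := by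
  subst hI
  let q : Ideal A := qIdeal R
  let g : A →+* FractionRing (A ⧸ q) := (algebraMap (A ⧸ q) _).comp (Ideal.Quotient.mk q)
  have hgq : ∀ a, a ∉ q → g a ≠ 0 := fun a ha h => ha
    (Ideal.Quotient.eq_zero_iff_mem.mp
      ((map_eq_zero_iff _ (IsFractionRing.injective (A ⧸ q) _)).mp h))
  have hgt : IsUnit (g t) := isUnit_iff_ne_zero.mpr (hgq t (t_notMem (t := t)))
  refine ⟨IsLocalization.Away.lift t hgt, fun x => ?_⟩
  obtain ⟨a, b, hb, rfl⟩ := IsFractionRing.div_surjective (A := A ⧸ q) x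
  obtain ⟨a, rfl⟩ := Ideal.Quotient.mk_surjective a
  obtain ⟨b, rfl⟩ := Ideal.Quotient.mk_surjective b
  have hbq : b ∉ q := fun h => nonZeroDivisors.ne_zero hb (Ideal.Quotient.eq_zero_iff_mem.mpr h)
  obtain ⟨w, hw⟩ := (isUnit_map_iff (t := t) R b).mpr ((notMem_qIdeal_iff (t := t) b).mp hbq)
  refine ⟨algebraMap A R a * ↑w⁻¹, ?_⟩
  have h1 : ∀ c, IsLocalization.Away.lift t hgt (algebraMap A R c) = g c :=
    IsLocalization.Away.lift_eq t hgt
  show _ = g a / g b
  rw [eq_div_iff (hgq b hbq), ← h1 b, ← map_mul, mul_assoc, ← hw, Units.inv_mul, mul_one, h1]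

/-- A field receiving a surjection from a ring with roots of monic polynomials is algebraically closed. -/
theorem isAlgClosed_of_surjective {R K : Type u} [CommRing R] [Field K] (h : Curves.IsAIC R)
    (ρ : R →+* K) (hρ : Function.Surjective ρ) : IsAlgClosed K := by
  refine IsAlgClosed.of_exists_root _ fun p hp hirr => ?_
  have : Nontrivial R := RingHom.domain_nontrivial ρ
  obtain ⟨F, hFmap, hFdeg, hF⟩ := Polynomial.lifts_and_natDegree_eq_and_monic
    (f := ρ) (p := p) ((Polynomial.mem_lifts _).mpr (Polynomial.map_surjective _ hρ p)) hp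
  obtain ⟨z, hz⟩ := h F hF (hFdeg ▸ hirr.natDegree_pos)
  refine ⟨ρ z, ?_⟩
  rw [← hFmap, Polynomial.eval_map, Polynomial.eval₂_at_apply,
    show F.eval z = 0 from hz, map_zero]

end Groth.Agent.H69.ValPushout
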