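import Groth.Agent.H69.ValPushout.Scheme
import Groth.Agent.Lib.Henselian.Sections
import Groth.Agent.Lib.Henselian.Roots
import Groth.Agent.Lib.Henselian.StrictHenselization
import Mathlib.AlgebraicGeometry.Morphisms.QuasiFinite
import Mathlib.AlgebraicGeometry.Morphisms.Etale
import Mathlib.RingTheory.Etale.QuasiFinite
import Groth.Prelude.Def_EtBase

/-!
# Henselian valuation pushouts and étale-local modulus pairs
-/

universe u

open CategoryTheory AlgebraicGeometry TopologicalSpace ModPair IsLocalRing Polynomial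

namespace Groth.Agent.H69.ValPushout

set_option backward.isDefEq.respectTransparency false

variable {A : Type u} [CommRing A]

/-- If `A` is henselian then so is `A[1/t]`. -/
theorem henselian_away [HenselianLocalRing A] {t : A} (ht : t ∈ nonZeroDivisors A) (hV : Dich t)
    (R : Type u) [CommRing R] [Algebra A R] [IsLocalization.Away t R] :
    HenselianLocalRing R := by
  have := isLocalRing_away R ht hV
  refine { is_henselian := fun f hf a₀ h₁ h₂ => ?_ }
  set q := taylor a₀ f with hq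
  obtain ⟨w, hw⟩ : IsUnit (q.coeff 1) := by rwa [hq, taylor_coeff_one]
  set e : R := q.coeff 0 * ↑w⁻¹ with he
  have he' : e ∈ maximalIdeal R := Ideal.mul_mem_right _ _ (by rwa [hq, taylor_coeff_zero])
  have hd : ∀ i, ∃ d ∈ qIdeal (A := A) R, algebraMap A R d = q.coeff (i + 2) * ↑w⁻¹ * e ^ (i + 1) :=
    fun i => exists_preimage hV (Ideal.mul_mem_left _ _ (Ideal.pow_mem_of_mem _ he' _ i.succ_pos))
  choose d hd hde using hd
  have hqm : qIdeal (A := A) R ≤ maximalIdeal A :=
    le_maximalIdeal (inferInstance : (qIdeal (A := A) R).IsPrime).ne_top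
  let N := q.natDegree
  let G : A[X] := 1 + X + ∑ i ∈ Finset.range N, C (d i) * X ^ (i + 2)
  obtain ⟨z, hz, -⟩ := Groth.Agent.Lib.Henselian.Roots.exists_root_lift (maximalIdeal A) G
    (a₀ := -1) (by
      simp only [G, eval_add, eval_one, eval_X, eval_finsetSum, eval_mul, eval_C, eval_pow]
      rw [add_neg_cancel, zero_add]
      exact Ideal.sum_mem _ fun i _ => Ideal.mul_mem_right _ _ (hqm (hd i)))
    (by
      simp only [G, derivative_add, derivative_one, derivative_X, derivative_sum, derivative_mul,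
        derivative_C, eval_add, eval_zero, eval_one, eval_finsetSum, eval_mul, eval_C, zero_mul,
        zero_add, map_add, map_one, map_sum, map_mul]
      rw [Finset.sum_eq_zero fun i _ => by rw [Ideal.Quotient.eq_zero_iff_mem.mpr (hqm (hd i)), zero_mul],
        add_zero]
      exact isUnit_one)
  have hz' : (1 : A) + z + ∑ i ∈ Finset.range N, d i * z ^ (i + 2) = 0 := by
    simpa [G, eval_finsetSum] using hz.eq_zero
  refine ⟨e * algebraMap A R z + a₀, ?_, ?_⟩
  · rw [IsRoot, ← taylor_eval, ← hq, eval_eq_sum_range' (p := q) (n := N + 2) (by omega),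
      Finset.sum_range_succ', Finset.sum_range_succ']
    have hterm : ∀ i ∈ Finset.range N, q.coeff (i + 1 + 1) * (e * algebraMap A R z) ^ (i + 1 + 1) =
        (↑w * e) * algebraMap A R (d i * z ^ (i + 2)) := by
      intro i _
      rw [map_mul, map_pow, hde, show i + 1 + 1 = i + 2 from rfl]
      linear_combination
        (-(q.coeff (i + 2) * e ^ (i + 2) * (algebraMap A R z) ^ (i + 2))) * w.mul_inv
    rw [Finset.sum_congr rfl hterm, ← Finset.mul_sum, ← map_sum]
    have h0 : (↑w * e : R) = q.coeff 0 := by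
      rw [he, mul_left_comm, Units.mul_inv, mul_one]
    have h := congrArg (algebraMap A R) hz'
    rw [map_add, map_add, map_one, map_zero] at h
    simp only [zero_add, pow_one, pow_zero, mul_one, ← hw]
    linear_combination (↑w * e : R) * h - h0
  · rw [add_sub_cancel_right]
    exact Ideal.mul_mem_right _ _ he'

/-- A quotient of a strictly henselian local ring is strictly henselian. -/
theorem isStrictlyHenselian_quotient (hA : EtCoh.IsStrictlyHenselianLocalRing A) (I : Ideal A)
    (hI : I ≠ ⊤) : EtCoh.IsStrictlyHenselianLocalRing (A ⧸ I) := by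
  obtain ⟨hh, hsep⟩ := hA
  have : Nontrivial (A ⧸ I) := Ideal.Quotient.nontrivial_iff.mpr hI
  have hl : IsLocalRing (A ⧸ I) :=
    .of_surjective' (Ideal.Quotient.mk I) Ideal.Quotient.mk_surjective
  have hloc : IsLocalHom (Ideal.Quotient.mk I) :=
    .of_surjective _ Ideal.Quotient.mk_surjective
  have hm : (maximalIdeal A).map (Ideal.Quotient.mk I) = maximalIdeal (A ⧸ I) := by
    refine le_antisymm (((local_hom_TFAE (Ideal.Quotient.mk I)).out 0 2).mp hloc) fun x hx => ?_
    obtain ⟨a, rfl⟩ := Ideal.Quotient.mk_surjective x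
    exact Ideal.mem_map_of_mem _ fun ha => hx (ha.map _)
  have hr := Groth.Agent.Lib.Henselian.Basic.henselianRing_quotient (J := maximalIdeal A)
    (le_maximalIdeal hI)
  rw [hm] at hr
  refine ⟨Groth.Agent.Lib.Henselian.LocalRing.henselianLocalRing_of_henselianRing,
    @Groth.Agent.Lib.Henselian.StrictHenselization.isSepClosed_of_ringEquiv _ _ _ _ hsep
      (RingEquiv.ofBijective (ResidueField.map (Ideal.Quotient.mk I))
        ⟨RingHom.injective _, fun y => ?_⟩)⟩
  obtain ⟨x, rfl⟩ := residue_surjective y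
  obtain ⟨a, rfl⟩ := Ideal.Quotient.mk_surjective x
  exact ⟨residue A a, rfl⟩

/-- Local for étale coverings of modulus pairs. -/
def EtLocal (P : Pair.{u}) : Prop :=
  ∀ (X : Pair.{u}) (ι : Type u) (U : ι → Pair.{u}) (v : ∀ i, U i ⟶ X),
    (∀ i, IsMinimal (U i).mod X.mod (v i).hom ∧ Etale (v i).hom ∧
      QuasiCompact (v i).hom ∧ QuasiSeparated (v i).hom) →
    (∀ x : X.total, ∃ (i : ι) (y : (U i).total), (v i).hom.base y = x) →
    ∀ g : P ⟶ X, ∃ (i : ι) (h : P ⟶ U i), h ≫ v i = g

theorem EtLocal.zarLocal {P : Pair.{u}} (he : EtLocal P) : ZarLocal P := by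
  intro X ι U v hv hcov g
  refine he X ι U v (fun i => ?_) hcov g
  obtain ⟨h1, h2, h3⟩ := hv i
  exact ⟨h1, inferInstance, h3, inferInstance⟩

theorem locallyQuasiFinite_of_etale {X Y : Scheme.{u}} (f : X ⟶ Y) [Etale f] :
    LocallyQuasiFinite f := by
  refine ⟨fun {U} hU {V} hV e ↦ ?_⟩
  have h1 := HasRingHomProperty.appLE @FormallyUnramified f inferInstance ⟨U, hU⟩ ⟨V, hV⟩ e
  have h2 := HasRingHomProperty.appLE @LocallyOfFiniteType f inferInstance ⟨U, hU⟩ ⟨V, hV⟩ e
  algebraize [(f.appLE U V e).hom]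
  have : Algebra.FormallyUnramified Γ(Y, U) Γ(X, V) := h1
  have : Algebra.FiniteType Γ(Y, U) Γ(X, V) := h2
  exact (inferInstance : Algebra.QuasiFinite Γ(Y, U) Γ(X, V))

/-- An affine neighbourhood meeting the closed fibre only at the given point. -/
theorem exists_isolating {X T : Scheme.{u}} (f : X ⟶ T) [LocallyQuasiFinite f] (x : X) :
    ∃ W : X.Opens, IsAffineOpen W ∧ x ∈ W ∧ ∀ y ∈ W, f y = f x → y = x := by
  have := (f.isDiscrete_preimage_singleton (f x)).to_subtype
  obtain ⟨O, hO, hOx⟩ := isOpen_induced_iff.mp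
    (isOpen_discrete ({⟨x, rfl⟩} : Set (f ⁻¹' {f x})))
  have hxO : x ∈ O := (Set.ext_iff.mp hOx ⟨x, rfl⟩).mpr rfl
  obtain ⟨W, hW, hxW, hle⟩ := exists_isAffineOpen_mem_and_subset (U := ⟨O, hO⟩) hxO
  exact ⟨W, hW, hxW, fun y hy hfy =>
    congrArg Subtype.val ((Set.ext_iff.mp hOx ⟨y, hfy⟩).mp (hle hy))⟩

/-- An étale-local pair with affine local total space has strictly henselian ring of sections. -/
theorem EtLocal.isStrictlyHenselian {P : Pair.{u}} [IsAffine P.total] [IsLocalRing Γ(P.total, ⊤)]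
    (he : EtLocal P) : EtCoh.IsStrictlyHenselianLocalRing Γ(P.total, ⊤) := by
  obtain ⟨h1, h2⟩ : HenselianLocalRing Γ(P.total, ⊤) ∧ IsSepClosed (ResidueField Γ(P.total, ⊤)) := by
    refine Groth.Agent.Lib.Henselian.Sections.henselian_and_sepClosed_iff.mpr fun X f hf x hx => ?_
    have := locallyQuasiFinite_of_etale f
    obtain ⟨W, hW, hxW, hiso⟩ := exists_isolating f x
    have : IsAffine (W : Scheme.{u}) := hW
    let T := P.total
    let M : Option (maximalIdeal Γ(T, ⊤)) → Pair.{u} := fun o => o.elim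
      ⟨W, P.mod.comap (W.ι ≫ f ≫ T.isoSpec.inv),
        Groth.Agent.Lib.Ideal.EffCartier.isEffCartier_comap_of_flat _ P.isEffCartier⟩
      (fun g => openPair P (T.basicOpen (g : Γ(T, ⊤))))
    let mv : ∀ o, M o ⟶ P := fun o => match o with
      | none => ⟨W.ι ≫ f ≫ T.isoSpec.inv, le_refl (P.mod.comap (W.ι ≫ f ≫ T.isoSpec.inv))⟩
      | some g => openPairι P (T.basicOpen (g : Γ(T, ⊤)))
    obtain ⟨o, h, hh⟩ := he P (Option (maximalIdeal Γ(T, ⊤))) M mv (fun o => by
        cases o with
        | none =>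
          have : IsAffineHom (W.ι ≫ f ≫ T.isoSpec.inv) := isAffineHom_of_isAffine _
          exact ⟨rfl, inferInstanceAs (Etale (W.ι ≫ f ≫ T.isoSpec.inv)),
            inferInstanceAs (QuasiCompact (W.ι ≫ f ≫ T.isoSpec.inv)),
            inferInstanceAs (QuasiSeparated (W.ι ≫ f ≫ T.isoSpec.inv))⟩
        | some g =>
          have : IsAffine (T.basicOpen (g : Γ(T, ⊤)) : Scheme.{u}) :=
            (isAffineOpen_top T).basicOpen _
          have : IsAffineHom (T.basicOpen (g : Γ(T, ⊤))).ι := isAffineHom_of_isAffine _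
          exact ⟨rfl, inferInstanceAs (Etale (T.basicOpen (g : Γ(T, ⊤))).ι),
            inferInstanceAs (QuasiCompact (T.basicOpen (g : Γ(T, ⊤))).ι),
            inferInstanceAs (QuasiSeparated (T.basicOpen (g : Γ(T, ⊤))).ι)⟩)
      (fun z => by
        by_cases hz : T.isoSpec.hom z = closedPoint Γ(T, ⊤)
        · refine ⟨none, ⟨x, hxW⟩, ?_⟩
          show T.isoSpec.inv (f x) = z
          rw [show f x = closedPoint _ from hx, ← hz, ← Scheme.Hom.comp_apply, Iso.hom_inv_id]
          rfl
        · obtain ⟨g, hgm, hgz⟩ : ∃ g ∈ maximalIdeal Γ(T, ⊤), g ∉ (T.isoSpec.hom z).asIdeal := by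
            by_contra hcon
            push Not at hcon
            exact hz (PrimeSpectrum.ext
              ((le_maximalIdeal (T.isoSpec.hom z).2.ne_top).antisymm hcon))
          refine ⟨some ⟨g, hgm⟩, ⟨z, ?_⟩, rfl⟩
          have h' : z ∈ T.toSpecΓ ⁻¹ᵁ PrimeSpectrum.basicOpen g := hgz
          rwa [Scheme.toSpecΓ_preimage_basicOpen] at h')
      (𝟙 P)
    cases o with
    | some g =>
      exfalso
      have hid : h.hom ≫ (T.basicOpen (g : Γ(T, ⊤))).ι = 𝟙 T := congrArg Pair.Hom.hom hh
      have hmem : T.isoSpec.inv (closedPoint Γ(T, ⊤)) ∈ T.basicOpen (g : Γ(T, ⊤)) := by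
        have h0 : (h.hom ≫ (T.basicOpen (g : Γ(T, ⊤))).ι) (T.isoSpec.inv (closedPoint Γ(T, ⊤))) ∈
            T.basicOpen (g : Γ(T, ⊤)) := (h.hom _).2
        rw [hid] at h0
        exact h0
      have h' : T.isoSpec.inv (closedPoint Γ(T, ⊤)) ∈
          T.toSpecΓ ⁻¹ᵁ PrimeSpectrum.basicOpen (g : Γ(T, ⊤)) := by
        rwa [Scheme.toSpecΓ_preimage_basicOpen]
      have h'' : T.isoSpec.hom (T.isoSpec.inv (closedPoint Γ(T, ⊤))) ∈
          PrimeSpectrum.basicOpen (g : Γ(T, ⊤)) := h'
      rw [← Scheme.Hom.comp_apply, Iso.inv_hom_id] at h''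
      exact h'' g.2
    | none =>
      have hid : h.hom ≫ W.ι ≫ f ≫ T.isoSpec.inv = 𝟙 T := congrArg Pair.Hom.hom hh
      refine ⟨T.isoSpec.inv ≫ h.hom ≫ W.ι, ?_, ?_⟩
      · rw [← cancel_mono T.isoSpec.inv]
        simp only [Category.assoc, Category.id_comp]
        rw [hid, Category.comp_id]
      · refine hiso _ (h.hom (T.isoSpec.inv (closedPoint Γ(T, ⊤)))).2 ?_
        show (T.isoSpec.inv ≫ h.hom ≫ W.ι ≫ f) (closedPoint _) = _
        have he' : T.isoSpec.inv ≫ h.hom ≫ W.ι ≫ f = 𝟙 _ := by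
          rw [← cancel_mono T.isoSpec.inv]
          simp only [Category.assoc, Category.id_comp]
          rw [hid, Category.comp_id]
        rw [he', hx]
        rfl
  exact ⟨h1, h2⟩

/-- Sections pass through every closed-fibre point, so étale coverings split. -/
theorem Core.etLocal {P : Pair.{u}} (hc : Core P)
    (hA : EtCoh.IsStrictlyHenselianLocalRing Γ(P.total, ⊤)) : EtLocal P := by
  intro X ι U v hv hcov g
  have := hc.affine
  obtain ⟨hh, hsep⟩ := hA
  let T := P.total
  obtain ⟨i, y, hy⟩ := hcov (g.hom (T.isoSpec.inv (closedPoint Γ(T, ⊤))))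
  have := (hv i).2.1
  obtain ⟨z, hz1, -⟩ := Scheme.Pullback.exists_preimage_pullback
    (f := g.hom) (g := (v i).hom) (T.isoSpec.inv (closedPoint Γ(T, ⊤))) y hy.symm
  obtain ⟨s, hs, -⟩ := Groth.Agent.Lib.Henselian.Sections.exists_section_through
    (Limits.pullback.fst g.hom (v i).hom ≫ T.isoSpec.hom) z (by
      show T.isoSpec.hom (Limits.pullback.fst g.hom (v i).hom z) = closedPoint Γ(T, ⊤)
      rw [hz1, ← Scheme.Hom.comp_apply, Iso.inv_hom_id]
      rfl)
  refine ⟨i, exists_factor (hv i).1 g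
    (T.isoSpec.hom ≫ s ≫ Limits.pullback.snd g.hom (v i).hom) ?_⟩
  have hl' : T.isoSpec.hom ≫ s ≫ Limits.pullback.fst g.hom (v i).hom = 𝟙 _ := by
    rw [← cancel_mono T.isoSpec.hom, Category.assoc, Category.assoc, hs, Category.id_comp]
    exact Category.comp_id _
  rw [Category.assoc, Category.assoc, ← Limits.pullback.condition]
  rw [← Category.assoc, ← Category.assoc, Category.assoc T.isoSpec.hom, hl', Category.id_comp]

end Groth.Agent.H69.ValPushout
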