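import Groth.Agent.H69.ValPushout.Alg
import Mathlib.LinearAlgebra.Basis.Submodule
import Mathlib.RingTheory.FiniteType
import Mathlib.RingTheory.Ideal.Operations
import Mathlib.RingTheory.LocalRing.Module
import Mathlib.LinearAlgebra.Dimension.OrzechProperty
import Mathlib.LinearAlgebra.Dimension.Free
import Mathlib.Algebra.Algebra.Operations
import Mathlib.Algebra.Algebra.Subalgebra.Lattice

/-!
# Points of finite free algebras over `A[1/t]` from points of finite free algebras over `A`
-/

universe u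

open scoped Pointwise

namespace Groth.Agent.H69.ValPushout

/-- Every finite free nonzero algebra has a point. -/
def FreePts (A : Type u) [CommRing A] : Prop :=
  ∀ (B : Type u) [CommRing B] [Algebra A B] [Module.Free A B] [Module.Finite A B] [Nontrivial B],
    Nonempty (B →ₐ[A] A)

variable {A : Type u} [CommRing A] {t : A} (R : Type u) [CommRing R] [Algebra A R]
  [IsLocalization.Away t R] [IsLocalRing R]

theorem freePts_away (ht : t ∈ nonZeroDivisors A) (hA : FreePts A) : FreePts R := by
  intro C _ _ _ _ _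
  classical
  let : Algebra A C := ((algebraMap R C).comp (algebraMap A R)).toAlgebra
  have : IsScalarTower A R C := IsScalarTower.of_algebraMap_eq fun _ => rfl
  let bC := Module.Free.chooseBasis R C
  let ι := Module.Free.ChooseBasisIndex R C
  obtain ⟨l₀⟩ : Nonempty ι := bC.index_nonempty
  obtain ⟨k, hk⟩ : ∃ k, IsUnit (bC.repr (1 : C) k) := by
    by_contra hcon
    push Not at hcon
    have h1 : bC.repr (bC l₀ * (1 : C)) l₀ = 1 := by simp
    rw [← bC.sum_repr 1, Finset.mul_sum, map_sum, Finsupp.finsetSum_apply] at h1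
    have h2 : (1 : R) ∈ IsLocalRing.maximalIdeal R := by
      rw [← h1]
      refine Ideal.sum_mem _ fun i _ => ?_
      rw [mul_smul_comm, map_smul, Finsupp.smul_apply, smul_eq_mul]
      exact Ideal.mul_mem_right _ _ (hcon i)
    exact h2 isUnit_one
  let v : ι → C := Function.update bC k 1
  have hspan : ⊤ ≤ Submodule.span R (Set.range v) := by
    rw [← bC.span_eq, Submodule.span_le]
    rintro _ ⟨i, rfl⟩
    rcases eq_or_ne i k with rfl | hi
    · have hv : bC.repr 1 i • bC i = 1 - ∑ l ∈ Finset.univ.erase i, bC.repr 1 l • bC l := by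
        rw [eq_sub_iff_add_eq, Finset.add_sum_erase _ (fun l => bC.repr 1 l • bC l)
          (Finset.mem_univ i), bC.sum_repr]
      obtain ⟨w, hw⟩ := hk
      have : bC i = (↑w⁻¹ : R) • (bC.repr 1 i • bC i) := by
        rw [smul_smul, ← hw, Units.inv_mul, one_smul]
      rw [this, hv]
      refine Submodule.smul_mem _ _ (sub_mem (Submodule.subset_span ⟨i, by simp [v]⟩)
        (Submodule.sum_mem _ fun l hl => Submodule.smul_mem _ _
          (Submodule.subset_span ⟨l, by simp [v, Finset.ne_of_mem_erase hl]⟩)))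
    · exact Submodule.subset_span ⟨i, by simp [v, hi]⟩
  let b₁ : Module.Basis ι R C := basisOfTopLeSpanOfCardEqFinrank v hspan
    (Module.finrank_eq_card_chooseBasisIndex R C).symm
  have hb₁ : ∀ i, b₁ i = v i := fun i => by
    simp [b₁, basisOfTopLeSpanOfCardEqFinrank]
  have hb₁k : b₁ k = 1 := by simp [hb₁, v]
  obtain ⟨⟨s, hsm⟩, hs⟩ := IsLocalization.exist_integer_multiples_of_finite (Submonoid.powers t)
    (fun p : ι × ι × ι => b₁.repr (b₁ p.1 * b₁ p.2.1) p.2.2)
  obtain ⟨u, hu⟩ : IsUnit (algebraMap A R s) := IsLocalization.map_units R ⟨s, hsm⟩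
  let σ : ι → Rˣ := fun i => if i = k then 1 else u
  let b₂ : Module.Basis ι R C := b₁.unitsSMul σ
  have hb₂ : ∀ i, b₂ i = (σ i : R) • b₁ i := fun i => b₁.unitsSMul_apply i
  have hb₂k : b₂ k = 1 := by simp [hb₂, σ, hb₁k]
  let M : Submodule A C := Submodule.span A (Set.range b₂)
  have hone : (1 : C) ∈ M := hb₂k ▸ Submodule.subset_span ⟨k, rfl⟩
  have hprod : ∀ i j, b₂ i * b₂ j ∈ M := by
    intro i j
    by_cases hi : i = k
    · rw [hi, hb₂k, one_mul]
      exact Submodule.subset_span ⟨j, rfl⟩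
    by_cases hj : j = k
    · rw [hj, hb₂k, mul_one]
      exact Submodule.subset_span ⟨i, rfl⟩
    rw [hb₂ i, hb₂ j, smul_mul_smul_comm, ← b₁.sum_repr (b₁ i * b₁ j), Finset.smul_sum]
    refine Submodule.sum_mem _ fun l _ => ?_
    obtain ⟨a, ha⟩ := hs ⟨i, j, l⟩
    change algebraMap A R a = s • b₁.repr (b₁ i * b₁ j) l at ha
    rw [Algebra.smul_def] at ha
    have key : ∀ c : A, algebraMap A R c * (σ l : R) =
        (σ i : R) * (σ j : R) * b₁.repr (b₁ i * b₁ j) l →
        ((σ i : R) * (σ j : R)) • b₁.repr (b₁ i * b₁ j) l • b₁ l ∈ M := by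
      intro c hc
      rw [smul_smul, ← hc, mul_smul, ← hb₂, algebraMap_smul]
      exact Submodule.smul_mem _ _ (Submodule.subset_span ⟨l, rfl⟩)
    by_cases hl : l = k
    · refine key (s * a) ?_
      simp only [σ, hi, hj, hl, if_true, if_false, Units.val_one, mul_one, map_mul, hu]
      subst hl
      rw [ha, mul_assoc]
    · refine key a ?_
      simp only [σ, hi, hj, hl, if_false, hu]
      rw [ha]
      ring
  have hmul : ∀ x y, x ∈ M → y ∈ M → x * y ∈ M := by
    intro x y hx hy
    have h := Submodule.mul_mem_mul hx hy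
    rw [Submodule.span_mul_span] at h
    refine (Submodule.span_le.mpr ?_) h
    rintro _ ⟨_, ⟨i, rfl⟩, _, ⟨j, rfl⟩, rfl⟩
    exact hprod i j
  let L : Subalgebra A C := M.toSubalgebra hone hmul
  have hinj : Function.Injective (algebraMap A R) := map_injective R ht
  have hli : LinearIndependent A b₂ := b₂.linearIndependent.restrict_scalars fun x y h => hinj (by
    simpa [Algebra.algebraMap_eq_smul_one] using h)
  let bL : Module.Basis ι A L := Module.Basis.span hli
  have : Module.Free A L := Module.Free.of_basis bL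
  have : Module.Finite A L := Module.Finite.of_basis bL
  have : Nontrivial L := ⟨⟨1, 0, fun h => one_ne_zero (congrArg Subtype.val h : (1 : C) = 0)⟩⟩
  obtain ⟨ψ⟩ := hA L
  let Φ : C →ₗ[R] R := b₂.constr R fun i => algebraMap A R (ψ (bL i))
  have hΦ : ∀ x : L, Φ x = algebraMap A R (ψ x) := by
    intro x
    have h : (Φ.restrictScalars A).comp L.val.toLinearMap =
        (Algebra.linearMap A R).comp ψ.toLinearMap := bL.ext fun i => by
      show Φ (bL i : C) = algebraMap A R (ψ (bL i))
      rw [show ((bL i : L) : C) = b₂ i from congrArg Subtype.val (Module.Basis.span_apply hli i)]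
      exact b₂.constr_basis R _ i
    exact LinearMap.congr_fun h x
  have hΦ1 : Φ 1 = 1 := by
    rw [show (1 : C) = ((1 : L) : C) from rfl, hΦ, map_one, map_one]
  have hΦmul : ∀ x y, Φ (x * y) = Φ x * Φ y := by
    have h₀ : ∀ i j, Φ (b₂ i * b₂ j) = Φ (b₂ i) * Φ (b₂ j) := fun i j => by
      let xi : L := ⟨b₂ i, Submodule.subset_span ⟨i, rfl⟩⟩
      let xj : L := ⟨b₂ j, Submodule.subset_span ⟨j, rfl⟩⟩
      rw [show b₂ i * b₂ j = ((xi * xj : L) : C) from rfl, show b₂ i = ((xi : L) : C) from rfl,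
        show b₂ j = ((xj : L) : C) from rfl, hΦ, hΦ, hΦ, map_mul, map_mul]
    have h₁ : ∀ i y, Φ (b₂ i * y) = Φ (b₂ i) * Φ y := fun i y => by
      have h : Φ.comp (LinearMap.mulLeft R (b₂ i)) = Φ (b₂ i) • Φ := b₂.ext fun j => h₀ i j
      exact LinearMap.congr_fun h y
    intro x y
    have h : Φ.comp (LinearMap.mulRight R y) = Φ y • Φ := b₂.ext fun i => by
      show Φ (b₂ i * y) = Φ y * Φ (b₂ i)
      rw [h₁, mul_comm]
    exact (LinearMap.congr_fun h x).trans (mul_comm _ _)
  exact ⟨AlgHom.ofLinearMap Φ hΦ1 hΦmul⟩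

end Groth.Agent.H69.ValPushout
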