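import Groth.Agent.H69.ValPushout.Covers
import Groth.Agent.H69.ValPushout.Henselian
import Groth.Agent.H69.ValPushout.Lattice
import Groth.Agent.Lib.QFRefine.Etale
import Mathlib.RingTheory.LocalRing.Module
import Mathlib.RingTheory.Finiteness.ModuleFinitePresentation
import Mathlib.AlgebraicGeometry.Sites.MorphismProperty
import Mathlib.RingTheory.AdjoinRoot

/-!
# Fppf-local valuation pushouts
-/

universe u

open CategoryTheory CategoryTheory.Limits AlgebraicGeometry TopologicalSpace ModPair IsLocalRing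

namespace Groth.Agent.H69.ValPushout

set_option backward.isDefEq.respectTransparency false

/-- A scheme through which every fppf covering splits. -/
def SchFppfLocal (T : Scheme.{u}) : Prop :=
  ∀ (X : Scheme.{u}) (R : Presieve X),
    R ∈ Scheme.precoverage (@Flat ⊓ @LocallyOfFinitePresentation ⊓ @QuasiCompact ⊓ @QuasiSeparated) X →
    ∀ g : T ⟶ X, ∃ (Y : Scheme.{u}) (w : Y ⟶ X) (h : T ⟶ Y), R w ∧ h ≫ w = g

/-- Local for fppf coverings of modulus pairs. -/
def FppfLocal (P : Pair.{u}) : Prop :=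
  ∀ (X : Pair.{u}) (ι : Type u) (U : ι → Pair.{u}) (v : ∀ i, U i ⟶ X),
    (∀ i, IsMinimal (U i).mod X.mod (v i).hom ∧ Flat (v i).hom ∧
      LocallyOfFinitePresentation (v i).hom ∧ QuasiCompact (v i).hom ∧
      QuasiSeparated (v i).hom) →
    (∀ x : X.total, ∃ (i : ι) (y : (U i).total), (v i).hom.base y = x) →
    ∀ g : P ⟶ X, ∃ (i : ι) (h : P ⟶ U i), h ≫ v i = g

theorem FppfLocal.etLocal {P : Pair.{u}} (hf : FppfLocal P) : EtLocal P := by
  intro X ι U v hv hcov g
  refine hf X ι U v (fun i => ?_) hcov g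
  obtain ⟨h1, h2, h3, h4⟩ := hv i
  exact ⟨h1, inferInstance, inferInstance, h3, h4⟩

theorem fppfLocal_of_schFppfLocal {P : Pair.{u}} (hT : SchFppfLocal P.total) : FppfLocal P := by
  intro X ι U v hv hcov g
  obtain ⟨Y, w, h, hR, hw⟩ := hT X.total
    (Presieve.ofArrows (fun i => (U i).total) fun i => (v i).hom)
    ((Scheme.ofArrows_mem_precoverage_iff _).mpr ⟨hcov, fun i =>
      ⟨⟨⟨(hv i).2.1, (hv i).2.2.1⟩, (hv i).2.2.2.1⟩, (hv i).2.2.2.2⟩⟩) g.hom
  cases hR with
  | mk i => exact ⟨i, exists_factor (hv i).1 g h hw⟩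

theorem schFppfLocal_total {P : Pair.{u}} (hf : FppfLocal P) : SchFppfLocal P.total := by
  intro X R hR g
  choose Y w hw y hy using fun z : P.total => Scheme.JointlySurjective.exists_eq R hR (g z)
  have hfl : ∀ z, Flat (w z) := fun z => (hR.2 (hw z)).1.1.1
  have hfp : ∀ z, LocallyOfFinitePresentation (w z) := fun z => (hR.2 (hw z)).1.1.2
  have hqc : ∀ z, QuasiCompact (w z) := fun z => (hR.2 (hw z)).1.2
  have hqs : ∀ z, QuasiSeparated (w z) := fun z => (hR.2 (hw z)).2
  let M : P.total → Pair.{u} := fun z => ⟨pullback g (w z), P.mod.comap (pullback.fst g (w z)),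
    Groth.Agent.Lib.Ideal.EffCartier.isEffCartier_comap_of_flat _ P.isEffCartier⟩
  let mv : ∀ z, M z ⟶ P := fun z =>
    ⟨pullback.fst g (w z), le_refl (P.mod.comap (pullback.fst g (w z)))⟩
  obtain ⟨z, h, hh⟩ := hf P P.total M mv (fun z => ⟨rfl,
      inferInstanceAs (Flat (pullback.fst g (w z))),
      inferInstanceAs (LocallyOfFinitePresentation (pullback.fst g (w z))),
      inferInstanceAs (QuasiCompact (pullback.fst g (w z))),
      inferInstanceAs (QuasiSeparated (pullback.fst g (w z)))⟩)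
    (fun z => by
      obtain ⟨p, hp, -⟩ := Scheme.Pullback.exists_preimage_pullback (f := g) (g := w z) z (y z)
        (hy z).symm
      exact ⟨z, p, hp⟩)
    (𝟙 P)
  have hid : h.hom ≫ pullback.fst g (w z) = 𝟙 P.total := congrArg Pair.Hom.hom hh
  refine ⟨Y z, w z, h.hom ≫ pullback.snd g (w z), hw z, ?_⟩
  rw [Category.assoc, ← pullback.condition, ← Category.assoc, hid, Category.id_comp]

theorem freePts_of_fppfLocal {P : Pair.{u}} [IsAffine P.total] [IsLocalRing Γ(P.total, ⊤)]
    (hf : FppfLocal P) : FreePts Γ(P.total, ⊤) := by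
  intro B _ _ _ _ _
  obtain ⟨t, ht, hg⟩ := exists_gen P
  let φ : Γ(P.total, ⊤) ⟶ CommRingCat.of B :=
    CommRingCat.ofHom (algebraMap Γ(P.total, ⊤) B)
  have hflat : φ.hom.Flat := RingHom.flat_algebraMap_iff.mpr inferInstance
  have : Flat (Spec.map φ) := HasRingHomProperty.Spec_iff.mpr hflat
  have : Module.FinitePresentation Γ(P.total, ⊤) B := Module.finitePresentation_of_projective _ _
  have hfp : φ.hom.FinitePresentation :=
    RingHom.finitePresentation_algebraMap.mpr inferInstance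
  have : LocallyOfFinitePresentation (Spec.map φ) := HasRingHomProperty.Spec_iff.mpr hfp
  have hinj : Function.Injective φ.hom := by
    rw [injective_iff_map_eq_zero]
    intro r hr
    let b := Module.Free.chooseBasis Γ(P.total, ⊤) B
    obtain ⟨i⟩ := b.index_nonempty
    have h0 : r • b i = 0 := by
      rw [Algebra.smul_def, show algebraMap Γ(P.total, ⊤) B r = 0 from hr, zero_mul]
    simpa using congrArg (fun x => b.repr x i) h0
  have hreg := Groth.Agent.Lib.Ideal.EffCartier.mem_nonZeroDivisors_of_flat hflat ht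
  obtain ⟨i, h, hh⟩ := hf P PUnit.{u + 1} (fun _ => algPair hg φ hreg)
    (fun _ => algPairHom hg φ hreg)
    (fun _ => ⟨rfl, inferInstanceAs (Flat (Spec.map φ ≫ P.total.isoSpec.inv)),
      inferInstanceAs (LocallyOfFinitePresentation (Spec.map φ ≫ P.total.isoSpec.inv)),
      inferInstanceAs (QuasiCompact (Spec.map φ ≫ P.total.isoSpec.inv)),
      inferInstanceAs (QuasiSeparated (Spec.map φ ≫ P.total.isoSpec.inv))⟩)
    (fun x => ⟨PUnit.unit, range_algHom φ x (RingHom.IsIntegral.comap_surjective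
      (RingHom.finite_algebraMap.mpr ‹Module.Finite Γ(P.total, ⊤) B›).to_isIntegral hinj
      (P.total.isoSpec.hom x))⟩)
    (𝟙 P)
  obtain ⟨ψ, hψ⟩ := exists_retraction_of_section h hh
  exact ⟨{ ψ with commutes' := hψ }⟩

theorem isAIC_of_freePts {A : Type u} [CommRing A] (h : FreePts A) : Curves.IsAIC A := by
  intro f hf hdeg
  rcases subsingleton_or_nontrivial A with hA | hA
  · exact ⟨0, Subsingleton.elim _ _⟩
  have := hf.free_adjoinRoot
  have := hf.finite_adjoinRoot
  have : Nontrivial (AdjoinRoot f) := by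
    refine ⟨1, 0, fun h1 => ?_⟩
    rw [← map_one (AdjoinRoot.mk f), AdjoinRoot.mk_eq_zero] at h1
    refine hf.not_dvd_of_degree_lt one_ne_zero ?_ h1
    rw [Polynomial.degree_one]
    exact Polynomial.natDegree_pos_iff_degree_pos.mp hdeg
  obtain ⟨ψ⟩ := h (AdjoinRoot f)
  refine ⟨ψ (AdjoinRoot.root f), ?_⟩
  have := Polynomial.aeval_algHom_apply ψ (AdjoinRoot.root f) f
  rw [AdjoinRoot.aeval_eq, AdjoinRoot.mk_self, map_zero] at this
  rw [← Polynomial.coe_aeval_eq_eval]
  exact this

/-- A strictly henselian local ring whose finite free algebras have points is fppf-local. -/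
theorem schFppfLocal_of_freePts {U : Scheme.{u}} [IsAffine U] [HenselianLocalRing Γ(U, ⊤)]
    [IsSepClosed (ResidueField Γ(U, ⊤))] (hF : FreePts Γ(U, ⊤)) : SchFppfLocal U := by
  intro X R hR g
  let c : U := U.isoSpec.inv (closedPoint Γ(U, ⊤))
  obtain ⟨Y, w, hw, y₀, hy₀⟩ := Scheme.JointlySurjective.exists_eq R hR (g c)
  have : Flat w := (hR.2 hw).1.1.1
  have : LocallyOfFinitePresentation w := (hR.2 hw).1.1.2
  obtain ⟨p, hp, -⟩ := Scheme.Pullback.exists_preimage_pullback (f := g) (g := w) c y₀ hy₀.symm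
  let π : pullback g w ⟶ Spec Γ(U, ⊤) := pullback.fst g w ≫ U.isoSpec.hom
  obtain ⟨O, V, u, v, y, r, h₁, h₂, -, h₄, h₅, h₆, h₇, h₈⟩ :=
    Groth.Agent.Lib.QFRefine.Etale.exists_etale_finite π p
  obtain ⟨s, hs, -⟩ := Groth.Agent.Lib.Henselian.Sections.exists_section_through u y (by
    rw [h₂]
    show U.isoSpec.hom (pullback.fst g w p) = closedPoint Γ(U, ⊤)
    rw [hp, ← Scheme.Hom.comp_apply, Iso.inv_hom_id]
    rfl)
  let V' := pullback s v
  let f : V' ⟶ Spec Γ(U, ⊤) := pullback.fst s v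
  have : IsFinite f := MorphismProperty.pullback_fst _ _ h₄
  have : Flat f := MorphismProperty.pullback_fst _ _ h₅
  have : Surjective f := MorphismProperty.pullback_fst _ _ h₇
  have : IsAffine V' := isAffine_of_isAffineHom f
  obtain ⟨φ, hφ⟩ := Spec.map_surjective (V'.isoSpec.inv ≫ f)
  have hfin : φ.hom.Finite := by
    have : IsFinite (Spec.map φ) := hφ ▸ inferInstance
    rwa [IsFinite.SpecMap_iff] at this
  have hflat : φ.hom.Flat := by
    have : Flat (Spec.map φ) := hφ ▸ inferInstance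
    exact HasRingHomProperty.Spec_iff.mp this
  have : Nontrivial Γ(V', ⊤) := by
    obtain ⟨q, -⟩ := f.surjective (closedPoint Γ(U, ⊤))
    have : Nonempty (⊤ : V'.Opens) := ⟨⟨q, trivial⟩⟩
    infer_instance
  algebraize [φ.hom]
  have : Module.Free Γ(U, ⊤) Γ(V', ⊤) := Module.free_of_flat_of_isLocalRing
  obtain ⟨ψ⟩ := hF Γ(V', ⊤)
  let l : Spec Γ(U, ⊤) ⟶ V' := Spec.map (CommRingCat.ofHom ψ.toRingHom) ≫ V'.isoSpec.inv
  have hl : l ≫ f = 𝟙 _ := by
    simp only [l, Category.assoc]
    rw [← hφ, ← Spec.map_comp, ← Spec.map_id]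
    congr 1
    exact CommRingCat.hom_ext (RingHom.ext ψ.commutes)
  let m : U ⟶ pullback g w := U.isoSpec.hom ≫ l ≫ pullback.snd s v ≫ r
  have hm : m ≫ pullback.fst g w = 𝟙 U := by
    rw [← cancel_mono U.isoSpec.hom]
    simp only [m, Category.assoc, Category.id_comp]
    rw [h₈, ← pullback.condition_assoc, hs, Category.comp_id, hl, Category.comp_id]
  refine ⟨Y, w, m ≫ pullback.snd g w, hw, ?_⟩
  rw [Category.assoc, ← pullback.condition, ← Category.assoc, hm, Category.id_comp]

end Groth.Agent.H69.ValPushout
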