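import Groth.Agent.H69.ValPushout.Alg
import Mathlib.AlgebraicGeometry.ValuativeCriterion
import Mathlib.RingTheory.Localization.FractionRing

/-!
# Sections of universally closed morphisms over a valuation pushout
-/

universe u

open CategoryTheory AlgebraicGeometry TopologicalSpace IsLocalRing

namespace Groth.Agent.H69.ValPushout

variable {A : Type u} [CommRing A] {t : A}

/-- A section over `Spec A[1/t]` of a universally closed morphism to `Spec A` extends to a section. -/
theorem exists_section [IsLocalRing A] (ht : t ∈ nonZeroDivisors A) (hV : Dich t)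
    (R : Type u) [CommRing R] [Algebra A R] [IsLocalization.Away t R]
    {Z : Scheme.{u}} (π : Z ⟶ Spec (CommRingCat.of A)) [UniversallyClosed π]
    (σ : Spec (CommRingCat.of R) ⟶ Z)
    (hσ : σ ≫ π = Spec.map (CommRingCat.ofHom (algebraMap A R))) :
    ∃ l : Spec (CommRingCat.of A) ⟶ Z, l ≫ π = 𝟙 _ := by
  have := isLocalRing_away R ht hV
  let q : Ideal A := qIdeal R
  have hval : ValuationRing (A ⧸ q) := valuationRing_quot hV
  let K := FractionRing (A ⧸ q)
  let g : A →+* K := (algebraMap (A ⧸ q) K).comp (Ideal.Quotient.mk q)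
  have hgt : IsUnit (g t) := isUnit_iff_ne_zero.mpr fun h => t_notMem (t := t) (R := R)
    (Ideal.Quotient.eq_zero_iff_mem.mp
      ((map_eq_zero_iff _ (IsFractionRing.injective (A ⧸ q) K)).mp h))
  let ρ : R →+* K := IsLocalization.Away.lift t hgt
  have hρ : ∀ a, ρ (algebraMap A R a) = g a := IsLocalization.Away.lift_eq t hgt
  have hker : RingHom.ker ρ = maximalIdeal R := by
    refine le_antisymm (le_maximalIdeal (RingHom.ker_ne_top ρ)) fun x hx => ?_
    obtain ⟨b, hb, rfl⟩ := exists_preimage (A := A) hV hx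
    rw [RingHom.mem_ker, hρ]
    show algebraMap (A ⧸ q) K (Ideal.Quotient.mk q b) = 0
    rw [Ideal.Quotient.eq_zero_iff_mem.mpr hb, map_zero]
  have hexist : ValuativeCriterion.Existence π :=
    (UniversallyClosed.eq_valuativeCriterion.le Z (Spec (CommRingCat.of A)) π ‹_›).1
  let S : ValuativeCommSq π :=
    { R := A ⧸ q
      K := K
      i₁ := Spec.map (CommRingCat.ofHom ρ) ≫ σ
      i₂ := Spec.map (CommRingCat.ofHom (Ideal.Quotient.mk q))
      commSq := ⟨by
        rw [Category.assoc, hσ, ← Spec.map_comp, ← Spec.map_comp]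
        congr 1
        exact CommRingCat.hom_ext (RingHom.ext hρ)⟩ }
  obtain ⟨⟨l₀, hl₁, hl₂⟩⟩ := (hexist S).exists_lift
  let K' : Spec (CommRingCat.of K) := closedPoint K
  obtain ⟨W, hW, hxW, -⟩ := exists_isAffineOpen_mem_and_subset
    (show l₀ (closedPoint (A ⧸ q)) ∈ (⊤ : Z.Opens) from trivial)
  have hσc : σ (closedPoint R) ∈ W := by
    have h1 : (Spec.map (CommRingCat.ofHom ρ)) K' = closedPoint R := by
      refine PrimeSpectrum.ext ?_
      show (maximalIdeal K).comap ρ = maximalIdeal R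
      rw [IsLocalRing.maximalIdeal_eq_bot, ← RingHom.ker_eq_comap_bot, hker]
    have h2 : σ (closedPoint R) = l₀ ((Spec.map (CommRingCat.ofHom (algebraMap (A ⧸ q) K))) K') := by
      rw [← h1, ← Scheme.Hom.comp_apply, ← Scheme.Hom.comp_apply]
      exact congrArg (fun f : Spec (CommRingCat.of K) ⟶ Z => f K') hl₁.symm
    rw [h2]
    exact ((specializes_closedPoint _).map l₀.continuous).mem_open W.2 hxW
  have hr : Set.range σ ⊆ Set.range hW.fromSpec := by
    rw [hW.range_fromSpec]
    rintro _ ⟨z, rfl⟩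
    exact ((specializes_closedPoint z).map σ.continuous).mem_open W.2 hσc
  have hr₀ : Set.range l₀ ⊆ Set.range hW.fromSpec := by
    rw [hW.range_fromSpec]
    rintro _ ⟨z, rfl⟩
    exact ((specializes_closedPoint z).map l₀.continuous).mem_open W.2 hxW
  obtain ⟨φ, hφ⟩ : ∃ φ : Γ(Z, W) ⟶ CommRingCat.of R, Spec.map φ ≫ hW.fromSpec = σ :=
    ⟨Spec.preimage (IsOpenImmersion.lift hW.fromSpec σ hr),
      by rw [Spec.map_preimage, IsOpenImmersion.lift_fac]⟩
  obtain ⟨φ₀, hφ₀⟩ : ∃ φ₀ : Γ(Z, W) ⟶ CommRingCat.of (A ⧸ q),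
      Spec.map φ₀ ≫ hW.fromSpec = l₀ :=
    ⟨Spec.preimage (IsOpenImmersion.lift hW.fromSpec l₀ hr₀),
      by rw [Spec.map_preimage, IsOpenImmersion.lift_fac]⟩
  have heq : φ ≫ CommRingCat.ofHom ρ = φ₀ ≫ CommRingCat.ofHom (algebraMap (A ⧸ q) K) := by
    refine Spec.map_injective ((cancel_mono hW.fromSpec).mp ?_)
    rw [Spec.map_comp, Spec.map_comp, Category.assoc, Category.assoc, hφ, hφ₀]
    exact hl₁.symm
  have hrange : ∀ w, φ.hom w ∈ (algebraMap A R).range := by
    intro w
    obtain ⟨a, ha⟩ := Ideal.Quotient.mk_surjective (φ₀.hom w)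
    have hm : φ.hom w - algebraMap A R a ∈ maximalIdeal R := by
      rw [← hker, RingHom.mem_ker, map_sub, hρ, sub_eq_zero]
      refine (congrArg (fun f : Γ(Z, W) ⟶ CommRingCat.of K => f.hom w) heq).trans ?_
      show algebraMap (A ⧸ q) K (φ₀.hom w) = algebraMap (A ⧸ q) K (Ideal.Quotient.mk q a)
      rw [ha]
    obtain ⟨b, -, hb⟩ := exists_preimage (A := A) hV hm
    exact ⟨a + b, by rw [map_add, hb]; ring⟩
  let e : A ≃+* (algebraMap A R).range :=
    RingEquiv.ofBijective (algebraMap A R).rangeRestrict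
      ⟨fun x y h => map_injective R ht (congrArg Subtype.val h),
        (algebraMap A R).rangeRestrict_surjective⟩
  let ψ : Γ(Z, W) ⟶ CommRingCat.of A :=
    CommRingCat.ofHom (e.symm.toRingHom.comp (φ.hom.codRestrict _ hrange))
  have hψ : ψ ≫ CommRingCat.ofHom (algebraMap A R) = φ :=
    CommRingCat.hom_ext (RingHom.ext fun w =>
      congrArg Subtype.val (e.apply_symm_apply ⟨φ.hom w, hrange w⟩))
  obtain ⟨χ, hχ⟩ := Spec.map_surjective (hW.fromSpec ≫ π)
  refine ⟨Spec.map ψ ≫ hW.fromSpec, ?_⟩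
  rw [Category.assoc, ← hχ, ← Spec.map_comp, ← Spec.map_id]
  congr 1
  have h3 : χ ≫ φ = CommRingCat.ofHom (algebraMap A R) := by
    refine Spec.map_injective ?_
    rw [Spec.map_comp, hχ, ← Category.assoc, hφ, hσ]
  refine CommRingCat.hom_ext (RingHom.ext fun a => map_injective R ht ?_)
  exact congrArg (fun f : CommRingCat.of A ⟶ CommRingCat.of R => f.hom a)
    (show (χ ≫ ψ) ≫ CommRingCat.ofHom (algebraMap A R) = CommRingCat.ofHom (algebraMap A R) by
      rw [Category.assoc, hψ, h3])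

end Groth.Agent.H69.ValPushout
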