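import Groth.Agent.H69.ValPushout.Lift
import Groth.Agent.Lib.ModPair.Category
import Groth.Agent.Lib.ModPair.Coprod
import Groth.Agent.Lib.Ideal.BlowUp
import Groth.Agent.Lib.AlmostBlowUp.Basic
import Groth.Agent.Lib.BlowUpExists.Proper
import Mathlib.AlgebraicGeometry.AffineScheme

/-!
# Modulus pairs local for Zariski coverings and admissible blow-ups

`Core P`: the total space is affine with local ring, and the generator of the modulus satisfies the divisibility
dichotomy.
-/

universe u

open CategoryTheory CategoryTheory.Limits AlgebraicGeometry TopologicalSpace ModPair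

namespace Groth.Agent.H69.ValPushout

set_option backward.isDefEq.respectTransparency false

/-- Local for Zariski coverings of modulus pairs. -/
def ZarLocal (P : Pair.{u}) : Prop :=
  ∀ (X : Pair.{u}) (ι : Type u) (U : ι → Pair.{u}) (v : ∀ i, U i ⟶ X),
    (∀ i, IsMinimal (U i).mod X.mod (v i).hom ∧ IsOpenImmersion (v i).hom ∧
      QuasiCompact (v i).hom) →
    (∀ x : X.total, ∃ (i : ι) (y : (U i).total), (v i).hom.base y = x) →
    ∀ g : P ⟶ X, ∃ (i : ι) (h : P ⟶ U i), h ≫ v i = g

/-- Local for abstract admissible blow-ups. -/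
def BlowLocal (P : Pair.{u}) : Prop :=
  ∀ (Q X : Pair.{u}) (q : Q ⟶ X), Pair.admBlowup q → ∀ g : P ⟶ X, ∃ h : P ⟶ Q, h ≫ q = g

/-- A lift on total spaces through a minimal morphism is a morphism of pairs. -/
theorem exists_factor {P U X : Pair.{u}} {v : U ⟶ X} (hv : IsMinimal U.mod X.mod v.hom) (g : P ⟶ X)
    (h : P.total ⟶ U.total) (hh : h ≫ v.hom = g.hom) : ∃ k : P ⟶ U, k ≫ v = g := by
  refine ⟨⟨h, ?_⟩, Pair.Hom.ext hh⟩
  show P.mod ≤ U.mod.comap h
  rw [hv, ← Scheme.IdealSheafData.comap_comp, hh]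
  exact g.cond

/-- The open subpair. -/
noncomputable def openPair (P : Pair.{u}) (U : P.total.Opens) : Pair.{u} :=
  ⟨U, P.mod.comap U.ι, Groth.Agent.Lib.Ideal.EffCartier.isEffCartier_comap_of_flat U.ι P.isEffCartier⟩

/-- The inclusion of the open subpair. -/
noncomputable def openPairι (P : Pair.{u}) (U : P.total.Opens) : openPair P U ⟶ P :=
  ⟨U.ι, le_refl (P.mod.comap U.ι)⟩

theorem top_of_zarLocal {P : Pair.{u}} (hz : ZarLocal P) {ι : Type u} (U : ι → P.total.Opens)
    (hU : iSup U = ⊤) (hq : ∀ i, QuasiCompact (U i).ι) : ∃ i, U i = ⊤ := by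
  obtain ⟨i, h, hh⟩ := hz P ι (fun i => openPair P (U i)) (fun i => openPairι P (U i))
    (fun i => ⟨rfl, inferInstanceAs (IsOpenImmersion (U i).ι), hq i⟩)
    (fun x => by
      obtain ⟨i, hi⟩ := Opens.mem_iSup.mp (hU.ge (Set.mem_univ x))
      exact ⟨i, ⟨x, hi⟩, rfl⟩) (𝟙 P)
  refine ⟨i, top_le_iff.mp fun x _ => ?_⟩
  have : h.hom ≫ (U i).ι = 𝟙 P.total := congrArg Pair.Hom.hom hh
  rw [← show (h.hom ≫ (U i).ι) x = x by rw [this]; rfl]
  exact (h.hom x).2

theorem isAffine_and_isLocalRing {P : Pair.{u}} [QuasiSeparatedSpace P.total] (hz : ZarLocal P) :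
    IsAffine P.total ∧ IsLocalRing Γ(P.total, ⊤) := by
  have hne : Nonempty P.total := by
    by_contra hne
    rw [not_nonempty_iff] at hne
    obtain ⟨i, -⟩ := hz P PEmpty.{u + 1} (fun i => i.elim) (fun i => i.elim) (fun i => i.elim)
      (fun x => (hne.false x).elim) (𝟙 P)
    exact i.elim
  have hqcι : ∀ U : P.total.Opens, IsAffineOpen U → QuasiCompact U.ι := fun U hU => by
    refine ⟨fun V hVo hV => ?_⟩
    have hc := QuasiSeparatedSpace.inter_isCompact V (U : Set P.total) hVo hV U.2 hU.isCompact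
    rw [U.ι.isEmbedding.isInducing.isCompact_iff, Set.image_preimage_eq_inter_range,
      Scheme.Opens.range_ι]
    exact hc
  obtain ⟨U₀, hU₀⟩ := top_of_zarLocal hz (fun U : P.total.affineOpens => U.1)
    (iSup_affineOpens_eq_top P.total) fun U => hqcι U.1 U.2
  have : IsAffine P.total := by
    have h := U₀.2
    rw [hU₀] at h
    exact IsAffine.of_isIso P.total.topIso.inv (h := h)
  have : Nontrivial Γ(P.total, ⊤) := by
    have : Nonempty (⊤ : P.total.Opens) := ⟨⟨hne.some, trivial⟩⟩
    infer_instance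
  refine ⟨‹_›, IsLocalRing.of_isUnit_or_isUnit_one_sub_self fun f => ?_⟩
  let W : ULift.{u} Bool → P.total.Opens := fun b =>
    if b.down then P.total.basicOpen f else P.total.basicOpen (1 - f)
  have hcov : iSup W = ⊤ := by
    refine top_le_iff.mp fun x _ => Opens.mem_iSup.mpr ?_
    by_cases hx : x ∈ P.total.basicOpen f
    · exact ⟨⟨true⟩, by simpa [W] using hx⟩
    · refine ⟨⟨false⟩, ?_⟩
      simp only [W, Bool.false_eq_true, if_false]
      rw [Scheme.mem_basicOpen P.total _ x (show x ∈ (⊤ : P.total.Opens) from trivial)] at hx ⊢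
      rw [map_sub, map_one]
      exact (IsLocalRing.isUnit_or_isUnit_one_sub_self _).resolve_left hx
  obtain ⟨i, hi⟩ := top_of_zarLocal hz W hcov (fun b => by
    apply hqcι
    simp only [W]
    split_ifs with h
    · exact (isAffineOpen_top P.total).basicOpen f
    · exact (isAffineOpen_top P.total).basicOpen (1 - f))
  have hu : ∀ g : Γ(P.total, ⊤), P.total.basicOpen g = ⊤ → IsUnit g := fun g hg =>
    P.total.toRingedSpace.isUnit_of_isUnit_germ ⊤ g fun x hx =>
      (Scheme.mem_basicOpen P.total g x hx).mp (hg.ge hx)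
  by_cases hb : i.down
  · exact Or.inl (hu _ (by simpa [W, hb] using hi))
  · exact Or.inr (hu _ (by simpa [W, hb] using hi))

theorem mem_closedPoint {T : Scheme.{u}} [IsAffine T] [IsLocalRing Γ(T, ⊤)] {U : T.Opens}
    (h : T.isoSpec.inv (IsLocalRing.closedPoint Γ(T, ⊤)) ∈ U) : U = ⊤ := by
  refine top_le_iff.mp fun x _ => ?_
  have h1 := (IsLocalRing.specializes_closedPoint (T.isoSpec.hom x)).map T.isoSpec.inv.continuous
  rw [← Scheme.Hom.comp_apply, Iso.hom_inv_id] at h1
  exact h1.mem_open U.2 h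

theorem exists_gen (P : Pair.{u}) [IsAffine P.total] [IsLocalRing Γ(P.total, ⊤)] :
    ∃ t ∈ nonZeroDivisors Γ(P.total, ⊤),
      P.mod.ideal ⟨⊤, isAffineOpen_top P.total⟩ = Ideal.span {t} := by
  obtain ⟨⟨U, hU⟩, hx, f, hf, he⟩ :=
    P.isEffCartier (P.total.isoSpec.inv (IsLocalRing.closedPoint Γ(P.total, ⊤)))
  obtain rfl := mem_closedPoint hx
  exact ⟨f, hf, he⟩

theorem interior_eq_basicOpen {P : Pair.{u}} [IsAffine P.total] {t : Γ(P.total, ⊤)}
    (he : P.mod.ideal ⟨⊤, isAffineOpen_top P.total⟩ = Ideal.span {t}) :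
    interior P.mod = P.total.basicOpen t := by
  rw [← Groth.Agent.Lib.AlmostBlowUp.Basic.awayFrom_inter he]
  exact (top_inf_eq _).symm

/-- The restriction to a basic open is a localization. -/
theorem isLocalization_ι_appTop {T : Scheme.{u}} [IsAffine T] (U : T.Opens) (t : Γ(T, ⊤))
    (hU : U = T.basicOpen t) :
    @IsLocalization.Away _ _ t Γ(U, ⊤) _ U.ι.appTop.hom.toAlgebra := by
  subst hU
  have h := (isAffineOpen_top T).isLocalization_basicOpen t
  algebraize [(T.basicOpen t).ι.appTop.hom]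
  let e : Γ(T, T.basicOpen t) ≃ₐ[Γ(T, ⊤)] Γ(T.basicOpen t, ⊤) :=
    { (T.basicOpen t).topIso.symm.commRingCatIsoToRingEquiv with
      commutes' := fun a => by
        show ((T.presheaf.map (homOfLE (T.basicOpen_le t)).op) ≫ (T.basicOpen t).topIso.inv) a = _
        simp only [Scheme.Opens.topIso_inv, ← Functor.map_comp]
        rfl }
  exact IsLocalization.isLocalization_of_algEquiv (Submonoid.powers t) e

/-- Total space affine local and the modulus generator has the divisibility dichotomy. -/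
structure Core (P : Pair.{u}) : Prop where
  affine : IsAffine P.total
  isLocal : IsLocalRing Γ(P.total, ⊤)
  dich : ∀ t ∈ nonZeroDivisors Γ(P.total, ⊤),
    P.mod.ideal ⟨⊤, isAffineOpen_top P.total⟩ = Ideal.span {t} → Dich t

theorem isAffine_interior {P : Pair.{u}} [IsAffine P.total] {t : Γ(P.total, ⊤)}
    (he : P.mod.ideal ⟨⊤, isAffineOpen_top P.total⟩ = Ideal.span {t}) :
    IsAffine (interior P.mod : Scheme.{u}) := by
  rw [interior_eq_basicOpen he]
  exact (isAffineOpen_top P.total).basicOpen t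

/-- The prime of the closed point of the interior. -/
theorem asIdeal_closedPoint {T : Scheme.{u}} [IsAffine T] (U : T.Opens) [IsAffine (U : Scheme.{u})]
    [IsLocalRing Γ(U, ⊤)] (p : (U : Scheme.{u})) (hp : IsClosed ({p} : Set (U : Scheme.{u}))) :
    (T.toSpecΓ.base (U.ι.base p)).asIdeal =
      (IsLocalRing.maximalIdeal Γ(U, ⊤)).comap U.ι.appTop.hom := by
  have hp' : (U : Scheme.{u}).toSpecΓ p = IsLocalRing.closedPoint Γ(U, ⊤) := by
    have hcl : IsClosed ((U : Scheme.{u}).toSpecΓ '' {p}) :=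
      (Scheme.Hom.homeomorph (U : Scheme.{u}).isoSpec.hom).isClosedMap _ hp
    rw [Set.image_singleton] at hcl
    exact ((IsLocalRing.specializes_closedPoint _).mem_closed hcl rfl).symm
  have h : T.toSpecΓ (U.ι p) = Spec.map U.ι.appTop ((U : Scheme.{u}).toSpecΓ p) := by
    rw [← Scheme.Hom.comp_apply, ← Scheme.Hom.comp_apply, Scheme.toSpecΓ_naturality]
  show (T.toSpecΓ (U.ι p)).asIdeal = _
  rw [h, hp']
  rfl

theorem dich_of_blowLocal {P : Pair.{u}} [IsAffine P.total] [IsLocalRing Γ(P.total, ⊤)]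
    (hb : BlowLocal P) {t : Γ(P.total, ⊤)} (ht : t ∈ nonZeroDivisors Γ(P.total, ⊤))
    (he : P.mod.ideal ⟨⊤, isAffineOpen_top P.total⟩ = Ideal.span {t}) : Dich t := by
  intro f n
  let J := Scheme.IdealSheafData.ofIdealTop (X := P.total) (Ideal.span {t ^ n, f})
  have hJ : J.ideal ⟨⊤, isAffineOpen_top P.total⟩ = Ideal.span {t ^ n, f} := by simp [J]
  obtain ⟨X', b, hbl⟩ := Groth.Agent.Lib.BlowUpExists.exists_isBlowUp P.total J
  have hfg : ∀ U, (J.ideal U).FG := fun U => by
    rw [Scheme.IdealSheafData.ofIdealTop_ideal]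
    exact Ideal.FG.map (Submodule.fg_span ((Set.finite_singleton f).insert _)) _
  have hprop := Groth.Agent.Lib.BlowUpExists.isProper_of_isBlowUp hbl hfg
  let Q : Pair.{u} := ⟨X', P.mod.comap b,
    Groth.Agent.Lib.Ideal.BlowUp.isEffCartier_comap_blowUp hbl P.isEffCartier⟩
  let q : Q ⟶ P := ⟨b, le_refl (P.mod.comap b)⟩
  have hle : interior P.mod ≤ J.support.compl := by
    intro x hx hxJ
    rw [interior_eq_basicOpen he] at hx
    have h0 := (Scheme.IdealSheafData.mem_support_iff_of_mem (I := J)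
      (U := ⟨⊤, isAffineOpen_top P.total⟩) (show x ∈ (⊤ : P.total.Opens) from trivial)).mp hxJ
    rw [Scheme.mem_zeroLocus_iff] at h0
    refine h0 (t ^ n) (hJ ▸ Ideal.subset_span (by simp)) ?_
    rcases n.eq_zero_or_pos with rfl | hn
    · rw [pow_zero, Scheme.basicOpen_of_isUnit _ isUnit_one]
      trivial
    · rwa [Scheme.basicOpen_pow _ _ hn]
  have hq : Pair.admBlowup q := by
    have := Groth.Agent.Lib.Ideal.BlowUp.isIso_off_center hbl
    exact ⟨rfl, hprop, Groth.Agent.Lib.ModPair.isIso_restrict_of_le b hle⟩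
  obtain ⟨h, hh⟩ := hb Q P q hq (𝟙 P)
  have hid : h.hom ≫ b = 𝟙 P.total := congrArg Pair.Hom.hom hh
  have hLP : Groth.Agent.Lib.ModPair.IsLP J := by
    have h1 := (Groth.Agent.Lib.ModPair.isLP_of_effCartier hbl.1).comap h.hom
    rwa [← Scheme.IdealSheafData.comap_comp, hid, Scheme.IdealSheafData.comap_id] at h1
  obtain ⟨⟨U, hU⟩, hxU, d, hd⟩ :=
    hLP (P.total.isoSpec.inv (IsLocalRing.closedPoint Γ(P.total, ⊤)))
  obtain rfl := mem_closedPoint hxU
  rw [hJ] at hd
  obtain ⟨x, hx⟩ := Ideal.mem_span_singleton'.mp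
    (hd ▸ Ideal.subset_span (by simp) : t ^ n ∈ Ideal.span {d})
  obtain ⟨y, hy⟩ := Ideal.mem_span_singleton'.mp
    (hd ▸ Ideal.subset_span (by simp) : f ∈ Ideal.span {d})
  obtain ⟨a, c, hac⟩ := Ideal.mem_span_pair.mp
    (hd.symm ▸ Ideal.mem_span_singleton_self d : d ∈ Ideal.span {t ^ n, f})
  have hdn : d ∈ nonZeroDivisors Γ(P.total, ⊤) :=
    (mul_mem_nonZeroDivisors.mp (hx ▸ pow_mem ht n)).2
  have h1 : a * x + c * y = 1 := by
    refine (mul_cancel_right_mem_nonZeroDivisors hdn).mp ?_
    rw [one_mul, add_mul, mul_assoc, mul_assoc, hx, hy, hac]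
  rcases IsLocalRing.isUnit_or_isUnit_of_add_one h1 with hu | hu
  · obtain ⟨w, hw⟩ := isUnit_of_mul_isUnit_right hu
    refine Or.inl ⟨y * ↑w⁻¹, ?_⟩
    rw [← hy, ← hx, ← hw]
    linear_combination (-(y * d)) * w.mul_inv
  · obtain ⟨w, hw⟩ := isUnit_of_mul_isUnit_right hu
    refine Or.inr ⟨x * ↑w⁻¹, ?_⟩
    rw [← hy, ← hx, ← hw]
    linear_combination (-(x * d)) * w.mul_inv

theorem core_of_local {P : Pair.{u}} [QuasiSeparatedSpace P.total] (hz : ZarLocal P)
    (hb : BlowLocal P) : Core P := by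
  obtain ⟨h1, h2⟩ := isAffine_and_isLocalRing hz
  exact ⟨h1, h2, fun t ht he => dich_of_blowLocal hb ht he⟩

theorem Core.blowLocal {P : Pair.{u}} (hc : Core P) : BlowLocal P := by
  intro Q X q ⟨hmin, hprop, hiso⟩ g
  have := hc.affine
  have := hc.isLocal
  obtain ⟨t, ht, he⟩ := exists_gen P
  have hV := hc.dich t ht he
  have := isAffine_interior he
  set U := interior P.mod
  have hloc := isLocalization_ι_appTop U t (interior_eq_basicOpen he)
  algebraize [U.ι.appTop.hom]
  have hr : Set.range (U.ι ≫ g.hom) ⊆ Set.range (interior X.mod).ι := by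
    rw [Scheme.Opens.range_ι]
    rintro _ ⟨x, rfl⟩
    exact Groth.Agent.Lib.ModPair.interior_le_of_isAmbient g.cond x.2
  let g₀ := IsOpenImmersion.lift (interior X.mod).ι (U.ι ≫ g.hom) hr
  let s := g₀ ≫ inv (q.hom ∣_ interior X.mod) ≫ (q.hom ⁻¹ᵁ interior X.mod).ι
  have hs : s ≫ q.hom = U.ι ≫ g.hom := by
    simp only [s, g₀, Category.assoc]
    rw [← morphismRestrict_ι, IsIso.inv_hom_id_assoc, IsOpenImmersion.lift_fac]
  let σ : (U : Scheme.{u}) ⟶ pullback g.hom q.hom := pullback.lift U.ι s hs.symm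
  have : IsProper (pullback.fst g.hom q.hom) := MorphismProperty.pullback_fst _ _ hprop
  let π := pullback.fst g.hom q.hom ≫ P.total.isoSpec.hom
  obtain ⟨l, hl⟩ := exists_section (A := Γ(P.total, ⊤)) ht hV Γ(U, ⊤) π
    ((U : Scheme.{u}).isoSpec.inv ≫ σ) (by
      simp only [σ, π, Category.assoc]
      rw [pullback.lift_fst_assoc, Iso.inv_comp_eq]
      exact (Scheme.isoSpec_hom_naturality U.ι).symm)
  refine exists_factor hmin g (P.total.isoSpec.hom ≫ l ≫ pullback.snd g.hom q.hom) ?_
  have hl' : P.total.isoSpec.hom ≫ l ≫ pullback.fst g.hom q.hom = 𝟙 _ := by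
    rw [← cancel_mono P.total.isoSpec.hom, Category.assoc, Category.assoc, hl, Category.id_comp]
    exact Category.comp_id _
  rw [Category.assoc, Category.assoc, ← pullback.condition]
  rw [← Category.assoc, ← Category.assoc, Category.assoc P.total.isoSpec.hom, hl', Category.id_comp]

/-- The closed point lands in a member of a covering; an open member then contains everything. -/
theorem Core.zarLocal {P : Pair.{u}} (hc : Core P) : ZarLocal P := by
  intro X ι U v hv hcov g
  have := hc.affine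
  have := hc.isLocal
  obtain ⟨i, y, hy⟩ := hcov (g.hom (P.total.isoSpec.inv (IsLocalRing.closedPoint Γ(P.total, ⊤))))
  have := (hv i).2.1
  have htop : g.hom ⁻¹ᵁ (v i).hom.opensRange = ⊤ := mem_closedPoint ⟨y, hy⟩
  have hr : Set.range g.hom ⊆ Set.range (v i).hom := by
    rintro _ ⟨x, rfl⟩
    exact (htop.ge (Set.mem_univ x) : x ∈ g.hom ⁻¹ᵁ (v i).hom.opensRange)
  exact ⟨i, exists_factor (hv i).1 g (IsOpenImmersion.lift (v i).hom g.hom hr)
    (IsOpenImmersion.lift_fac _ _ _)⟩

theorem glue_of_eq {A : Type u} [CommRing A] {t : A} (R : Type u) [CommRing R] [Algebra A R]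
    [IsLocalization.Away t R] [IsLocalRing R] (ht : t ∈ nonZeroDivisors A) (hV : Dich t)
    (I : Ideal A) [I.IsPrime] (hI : I = qIdeal R) :
    ValuationRing (A ⧸ I) ∧ Set.BijOn (algebraMap A (Localization.AtPrime I)) (SetLike.coe I)
      (SetLike.coe (IsLocalRing.maximalIdeal (Localization.AtPrime I))) := by
  subst hI
  exact ⟨valuationRing_quot hV, bijOn_atPrime ht hV⟩

theorem dich_of_eq {A : Type u} [CommRing A] {t : A} (R : Type u) [CommRing R] [Algebra A R]
    [IsLocalization.Away t R] [IsLocalRing R]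
    (I : Ideal A) [I.IsPrime] (hI : I = qIdeal R) (h1 : ValuationRing (A ⧸ I))
    (h2 : Set.BijOn (algebraMap A (Localization.AtPrime I)) (SetLike.coe I)
      (SetLike.coe (IsLocalRing.maximalIdeal (Localization.AtPrime I)))) : Dich t := by
  subst hI
  exact dich_of_valuationRing h1 h2

/-- `Core` in terms of the glueing of the closure of the closed point of the interior. -/
theorem core_iff (P : Pair.{u}) :
    Core P ↔
      (IsAffine P.total ∧ IsLocalRing Γ(P.total, ⊤) ∧
      IsAffine (interior P.mod : Scheme.{u}) ∧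
      IsLocalRing Γ((interior P.mod : Scheme.{u}), ⊤) ∧
      ∀ p : (interior P.mod : Scheme.{u}),
        IsClosed ({p} : Set (interior P.mod : Scheme.{u})) →
          ValuationRing (Γ(P.total, ⊤) ⧸
            (P.total.toSpecΓ.base ((interior P.mod).ι.base p)).asIdeal) ∧
          Set.BijOn (algebraMap Γ(P.total, ⊤) (Localization.AtPrime
              (P.total.toSpecΓ.base ((interior P.mod).ι.base p)).asIdeal))
            ((P.total.toSpecΓ.base ((interior P.mod).ι.base p)).asIdeal : Set Γ(P.total, ⊤))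
            (IsLocalRing.maximalIdeal (Localization.AtPrime
              (P.total.toSpecΓ.base ((interior P.mod).ι.base p)).asIdeal) :
              Set (Localization.AtPrime
                (P.total.toSpecΓ.base ((interior P.mod).ι.base p)).asIdeal))) := by
  constructor
  · intro hc
    have := hc.affine
    have := hc.isLocal
    obtain ⟨t, ht, he⟩ := exists_gen P
    have hV := hc.dich t ht he
    have hloc := isLocalization_ι_appTop (interior P.mod) t (interior_eq_basicOpen he)
    have haff := isAffine_interior he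
    algebraize [(interior P.mod).ι.appTop.hom]
    have hlR : IsLocalRing Γ((interior P.mod : Scheme.{u}), ⊤) := isLocalRing_away _ ht hV
    refine ⟨‹_›, ‹_›, haff, hlR, fun p hp => ?_⟩
    exact glue_of_eq Γ((interior P.mod : Scheme.{u}), ⊤) ht hV _
      (asIdeal_closedPoint (interior P.mod) p hp)
  · rintro ⟨h1, h2, h3, h4, h5⟩
    refine ⟨h1, h2, fun t ht he => ?_⟩
    have hloc := isLocalization_ι_appTop (interior P.mod) t (interior_eq_basicOpen he)
    algebraize [(interior P.mod).ι.appTop.hom]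
    let p := (interior P.mod : Scheme.{u}).isoSpec.inv
      (IsLocalRing.closedPoint Γ((interior P.mod : Scheme.{u}), ⊤))
    have hp : IsClosed ({p} : Set (interior P.mod : Scheme.{u})) := by
      rw [← Set.image_singleton]
      exact (Scheme.Hom.homeomorph (interior P.mod : Scheme.{u}).isoSpec.inv).isClosedMap _
        (IsLocalRing.isClosed_singleton_closedPoint _)
    have h := h5 p hp
    exact dich_of_eq Γ((interior P.mod : Scheme.{u}), ⊤) _
      (asIdeal_closedPoint (interior P.mod) p hp) h.1 h.2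

end Groth.Agent.H69.ValPushout
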